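import Cfsg.Agent.FourTwo.Base

/-!
# S2464, `F₄(2)`: the words without fixed vector and their complements (helper335)

* `NF` : the six words of `H612.Ore.rws` whose element of `Sp₆(2)` fixes no vector of `2⁶`;
* `compL`, `comps` : the complement letters and their sublists.
-/

set_option autoImplicit false

namespace Cfsg.Agent.H335.TC6

/-- the six words -/
def NF : List (List ℕ) := [[5, 4, 3, 2, 1, 0], [6, 4, 3, 2, 1, 0], [6, 5, 4, 2, 1, 0], [6, 5, 4, 3, 2, 1, 0],
  [4, 3, 2, 6, 1, 2, 3, 1, 2, 0, 1, 0], [6, 4, 2, 3, 1, 2, 6, 4, 5, 3, 4, 0, 1, 2, 3, 0, 1, 2, 0, 1, 0]]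

/-- the complement letters -/
def compL (w : List ℕ) : List ℕ :=
  if w = [5, 4, 3, 2, 1, 0] then [33, 36, 41] else
  if w = [6, 4, 3, 2, 1, 0] then [33, 34, 41] else
  if w = [6, 5, 4, 2, 1, 0] then [41] else
  if w = [6, 5, 4, 3, 2, 1, 0] then [41] else
  if w = [4, 3, 2, 6, 1, 2, 3, 1, 2, 0, 1, 0] then [33, 34, 41] else [33, 35, 42]

/-- the complements -/
def comps (w : List ℕ) : List (List ℕ) := (compL w).sublists

end Cfsg.Agent.H335.TC6
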