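import Cfsg.Agent.H335.FT.Par

/-!
# S2464, `F₄(2)`: products of two elements of one class of order 7 (helper335)

* `P7 X g` : `g` is a product of two conjugates of `X`;
* `conj_of_mem` : `a * b * x`, `x ∈ cov`, is a product of conjugates of `a` and `b`;
* `good7_of_chk` : the certificates of a coset.
-/

set_option autoImplicit false

namespace Cfsg.Agent.H335.TC6

open scoped commutatorElement
open Cfsg.Agent.H335.FT

universe u

/-! ### the predicate -/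

/-- `g` is a product of two conjugates of `X` -/
def P7 {G : Type u} [Group G] (X g : G) : Prop := ∃ a b : G, IsConj X a ∧ IsConj X b ∧ a * b = g

theorem P7.of_conj {G : Type u} [Group G] {X g : G} (x : G) (h : P7 X (x * g * x⁻¹)) : P7 X g := by
  obtain ⟨a, b, ha, hb, e⟩ := h
  refine ⟨x⁻¹ * a * x, x⁻¹ * b * x, ha.trans (isConj_iff.2 ⟨x⁻¹, by rw [inv_inv]⟩),
    hb.trans (isConj_iff.2 ⟨x⁻¹, by rw [inv_inv]⟩), ?_⟩
  have : x⁻¹ * a * x * (x⁻¹ * b * x) = x⁻¹ * (a * b) * x := by group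
  rw [this, e]
  group

theorem P7.map {G H : Type u} [Group G] [Group H] {X g : G} (h : P7 X g) (f : G →* H) : P7 (f X) (f g) := by
  obtain ⟨a, b, ha, hb, e⟩ := h
  obtain ⟨c, rfl⟩ := isConj_iff.1 ha
  obtain ⟨d, rfl⟩ := isConj_iff.1 hb
  refine ⟨_, _, isConj_iff.2 ⟨f c, rfl⟩, isConj_iff.2 ⟨f d, rfl⟩, ?_⟩
  rw [← e]
  simp only [map_mul, map_inv]

theorem P7.of_isConj {G : Type u} [Group G] {X g g' : G} (h : P7 X g) (e : IsConj g g') : P7 X g' := by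
  obtain ⟨c, rfl⟩ := isConj_iff.1 e
  refine P7.of_conj c⁻¹ ?_
  have : c⁻¹ * (c * g * c⁻¹) * c⁻¹⁻¹ = g := by group
  rw [this]
  exact h

theorem P7.six {G : Type u} [Group G] {X g : G} (h : P7 X g) : ∃ u v : G, g = (u * X * u⁻¹) * (v * X * v⁻¹) := by
  obtain ⟨a, b, ha, hb, e⟩ := h
  obtain ⟨c, rfl⟩ := isConj_iff.1 ha
  obtain ⟨d, rfl⟩ := isConj_iff.1 hb
  exact ⟨c, d, e.symm⟩

/-! ### one coset -/

section

variable {G : Type u} [Group G] {Q Z : Subgroup G} {a b : G} (h : QZ Q Z) (ha : Nz Q Z a) (hb : Nz Q Z b)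

/-- **One coset.** -/
theorem conj_of_mem (hz : ∀ x ∈ Z, ∃ p ∈ Z, ∃ q ∈ Z, x = ⁅p, a⁆ * ⁅q, b⁆) {x : G} (hx : x ∈ cov h ha hb) :
    ∃ a' b' : G, IsConj a a' ∧ IsConj b b' ∧ a' * b' = a * b * x := by
  obtain ⟨-, p, hp, q, hq, h1⟩ := conj_mem_cov h ha hb hx
  obtain ⟨u, hu⟩ : ∃ u, u = a * p * a⁻¹ := ⟨_, rfl⟩
  have huQ : u ∈ Q := by rw [hu]; exact ha.q _ hp
  obtain ⟨a', ha'⟩ : ∃ a', a' = u * a * u⁻¹ := ⟨_, rfl⟩
  obtain ⟨b', hb'⟩ : ∃ b', b' = q * b * q⁻¹ := ⟨_, rfl⟩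
  obtain ⟨ζ, hζ⟩ : ∃ ζ, ζ = (a' * b')⁻¹ * (a * b * x) := ⟨_, rfl⟩
  have hζZ : ζ ∈ Z := by
    have e : ζ = b⁻¹ * ((b * x * b⁻¹)⁻¹ * (⁅p, a⁆ * ⁅q, b⁆))⁻¹ * b := by
      rw [hζ, ha', hb', hu]
      simp only [commutatorElement_def]
      group
    rw [e]
    exact hb.z' _ (inv_mem h1)
  have e1 : a * b * x = a' * b' * ζ := by rw [hζ]; group
  have na' : Nz Q Z a' := by
    rw [ha']
    have nu : Nz Q Z u := ⟨fun x hx => mul_mem (mul_mem huQ hx) (inv_mem huQ),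
      fun x hx => mul_mem (mul_mem (inv_mem huQ) hx) huQ, fun x hx => by rw [h.cent x hx u huQ]; exact hx,
      fun x hx => by
        have := h.cent x hx u⁻¹ (inv_mem huQ)
        rw [inv_inv] at this
        rw [this]; exact hx⟩
    exact (nu.mul ha).mul nu.inv
  have nb' : Nz Q Z b' := by
    rw [hb']
    have nu : Nz Q Z q := ⟨fun x hx => mul_mem (mul_mem hq hx) (inv_mem hq),
      fun x hx => mul_mem (mul_mem (inv_mem hq) hx) hq, fun x hx => by rw [h.cent x hx q hq]; exact hx,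
      fun x hx => by
        have := h.cent x hx q⁻¹ (inv_mem hq)
        rw [inv_inv] at this
        rw [this]; exact hx⟩
    exact (nu.mul hb).mul nu.inv
  obtain ⟨p₂, hp₂, q₂, hq₂, h2⟩ := hz _ (nb'.z _ hζZ)
  rw [← comm_conj h huQ ha hp₂, ← comm_conj h hq hb hq₂, ← ha', ← hb'] at h2
  obtain ⟨u₂, hu₂⟩ : ∃ u₂, u₂ = a' * p₂ * a'⁻¹ := ⟨_, rfl⟩
  have e2 : (u₂ * a' * u₂⁻¹) * (q₂ * b' * q₂⁻¹) = a' * b' * ζ := by
    have e : (u₂ * a' * u₂⁻¹) * (q₂ * b' * q₂⁻¹) = a' * (⁅p₂, a'⁆ * ⁅q₂, b'⁆) * b' := by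
      rw [hu₂]
      simp only [commutatorElement_def]
      group
    rw [e, ← h2]
    group
  refine ⟨u₂ * a' * u₂⁻¹, q₂ * b' * q₂⁻¹, ?_, ?_, by rw [e2, e1]⟩
  · exact isConj_iff.2 ⟨u₂ * u, by rw [ha']; group⟩
  · exact isConj_iff.2 ⟨q₂ * q, by rw [hb']; group⟩

end

/-! ### words -/

/-- the word of order 7 -/
def x0 : List ℕ := [24, 23, 22, 25]

/-- the element of order 7 -/
noncomputable def X0 : GF := wd x0

theorem isConj_of_eqW {c l l' : List ℕ} (h : eqW (c ++ (l ++ c.reverse)) l' = true) : IsConj (wd l) (wd l') := by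
  have h1 := wd_eq h
  rw [wd_append, wd_append, wd_reverse, ← mul_assoc] at h1
  exact isConj_iff.2 ⟨wd c, h1⟩

/-- the conjugacy check of a pair -/
def chkC7 (u : List ℕ) (D : PD) (c : List ℕ × List ℕ) : Bool :=
  eqW (c.1 ++ (x0 ++ c.1.reverse)) D.c && eqW (c.2 ++ (x0 ++ c.2.reverse)) (D.c.reverse ++ u)

section

variable {Nl Ql Zl : List ℕ} (h : QZ (Cl Ql) (Cl Zl)) {u : List ℕ} {D : PD} {c : List ℕ × List ℕ}

include h in
/-- **The soundness of a pair.** -/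
theorem sound7 (ha : Nz (Cl Ql) (Cl Zl) D.a) (hb : Nz (Cl Ql) (Cl Zl) (D.b u)) (hA : D.chkA u = true)
    (hC : chkC7 u D c = true) (hZ : D.chkZ Zl = true) {x : GF} (hx : x ∈ cov h ha hb) : P7 X0 (wd u * x) := by
  unfold chkC7 at hC
  rw [Bool.and_eq_true] at hC
  have oa : IsConj X0 D.a := isConj_of_eqW hC.1
  have ob : IsConj X0 (D.b u) := isConj_of_eqW hC.2
  rw [← D.ab u]
  obtain ⟨a', b', h1, h2, e⟩ := conj_of_mem h ha hb (cover_Z h ha hb rfl (by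
    rintro _ ⟨r, hr, rfl⟩
    unfold PD.chkZ at hZ
    rw [List.all_eq_true] at hZ
    have h1 := hZ r hr
    rw [List.any_eq_true] at h1
    obtain ⟨e, -, h3⟩ := h1
    simp only [Bool.and_eq_true] at h3
    obtain ⟨-, h4, h5, h6⟩ := h3
    refine ⟨wd e.2.1, wd_mem_Cl (sub_of_su h4), wd e.2.2, wd_mem_Cl (sub_of_su h5), ?_⟩
    have := PD.id hA h6
    rwa [wd_cons, wd_nil, mul_one] at this)) hx
  exact ⟨a', b', oa.trans h1, ob.trans h2, e⟩

end

/-- every element of the coset `u V_J` -/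
def Good7 (Ql : List ℕ) (u : GF) : Prop := ∀ x ∈ Cl Ql, P7 X0 (u * x)

/-- one representative -/
def chkRep7 (Nl Ql Zl u : List ℕ) : List (PD × List ℕ × List ℕ) → Bool
  | [D] => su D.1.c Nl && (D.1.chkA u && (chkC7 u D.1 D.2 && (D.1.chkZ Zl && (D.1.chkV Zl Ql && D.1.f.isEmpty))))
  | [D1, D2, D3] =>
      (su D1.1.c Nl && (D1.1.chkA u && (chkC7 u D1.1 D1.2 && (D1.1.chkZ Zl && D1.1.chkV Zl Ql)))) &&
      ((su D2.1.c Nl && (D2.1.chkA u && (chkC7 u D2.1 D2.2 && (D2.1.chkZ Zl && D2.1.chkV Zl Ql)))) &&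
      ((su D3.1.c Nl && (D3.1.chkA u && (chkC7 u D3.1 D3.2 && (D3.1.chkZ Zl && D3.1.chkV Zl Ql)))) &&
      Ql.all fun r => !((me r D1.1.f ^^ me r D2.1.f) ^^ me r D3.1.f)))
  | _ => false

section

variable {Nl Ql Zl : List ℕ} (h : QZ (Cl Ql) (Cl Zl)) (hN : ∀ a ∈ Nl, Nz (Cl Ql) (Cl Zl) (gx a))

include h hN

theorem good7_full {u : List ℕ} (hu : ∀ r ∈ u, r ∈ Nl) {D : PD} {c : List ℕ × List ℕ} (hc : su D.c Nl = true)
    (hA : D.chkA u = true) (hC : chkC7 u D c = true)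
    (hZ : D.chkZ Zl = true) (hV : D.chkV Zl Ql = true) (hf : D.f.isEmpty = true) : Good7 Ql (wd u) := by
  intro x hx
  obtain ⟨ha, hb⟩ := nz_pair h hN hu hc
  refine sound7 h ha hb hA hC hZ ?_
  have : Cl Ql ≤ cov h ha hb := by
    change Subgroup.closure _ ≤ _
    rw [Subgroup.closure_le]
    rintro _ ⟨r, hr, rfl⟩
    by_cases hz : r ∈ Zl
    · exact Z_le_cov h ha hb (gx_mem_Cl hz)
    · have h1 := PD.vcov h ha hb hA hV hr hz
      have h2 : me r D.f = false := by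
        rw [List.isEmpty_iff.1 hf]; rfl
      rwa [h2, if_neg (by simp), mul_one] at h1
  exact this hx

theorem good7_triple {u : List ℕ} (hu : ∀ r ∈ u, r ∈ Nl) {D : Fin 3 → PD} {c : Fin 3 → List ℕ × List ℕ}
    (hc : ∀ i, su (D i).c Nl = true)
    (hA : ∀ i, (D i).chkA u = true) (hC : ∀ i, chkC7 u (D i) (c i) = true)
    (hZ : ∀ i, (D i).chkZ Zl = true) (hV : ∀ i, (D i).chkV Zl Ql = true)
    (hf : ∀ r ∈ Ql, ((me r (D 0).f ^^ me r (D 1).f) ^^ me r (D 2).f) = false) : Good7 Ql (wd u) := by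
  intro x hx
  have hab := fun i => nz_pair h hN hu (hc i)
  have hi0 : ∀ i, gx (D i).i0 ∈ Cl Ql := by
    intro i
    have := hV i
    unfold PD.chkV at this
    rw [Bool.and_eq_true] at this
    exact gx_mem_Cl (mem_of_me this.1)
  obtain ⟨i, hi⟩ := triple h (X := gx '' {r | r ∈ Ql}) rfl (C := fun i => cov h (hab i).1 (hab i).2)
    (y := fun i => gx (D i).i0) hi0 (fun i => gx_mul_self _) (fun i => Z_le_cov h _ _) (by
      rintro _ ⟨r, hr, rfl⟩
      by_cases hz : r ∈ Zl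
      · refine ⟨fun _ => false, rfl, fun i => ?_⟩
        simp only [Bool.false_eq_true, if_false, mul_one]
        exact Z_le_cov h _ _ (gx_mem_Cl hz)
      · exact ⟨fun i => me r (D i).f, hf r hr, fun i => PD.vcov h (hab i).1 (hab i).2 (hA i) (hV i) hr hz⟩) x hx
  exact sound7 h (hab i).1 (hab i).2 (hA i) (hC i) (hZ i) hi

theorem good7_of_chk {u : List ℕ} (hu : ∀ r ∈ u, r ∈ Nl) {Ds : List (PD × List ℕ × List ℕ)}
    (hc : chkRep7 Nl Ql Zl u Ds = true) : Good7 Ql (wd u) := by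
  match Ds with
  | [] => simp [chkRep7] at hc
  | [D] =>
    simp only [chkRep7, Bool.and_eq_true] at hc
    obtain ⟨h1, h2, h2', h3, h4, h5⟩ := hc
    exact good7_full h hN hu h1 h2 h2' h3 h4 h5
  | [_, _] => simp [chkRep7] at hc
  | [D1, D2, D3] =>
    simp only [chkRep7, Bool.and_eq_true] at hc
    obtain ⟨⟨a1, a2, a2', a3, a4⟩, ⟨b1, b2, b2', b3, b4⟩, ⟨c1, c2, c2', c3, c4⟩, hx⟩ := hc
    rw [List.all_eq_true] at hx
    refine good7_triple h hN hu (D := ![D1.1, D2.1, D3.1]) (c := ![D1.2, D2.2, D3.2]) ?_ ?_ ?_ ?_ ?_ ?_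
    · intro i; fin_cases i <;> assumption
    · intro i; fin_cases i <;> assumption
    · intro i; fin_cases i <;> assumption
    · intro i; fin_cases i <;> assumption
    · intro i; fin_cases i <;> assumption
    · intro r hr
      have := hx r hr
      rw [Bool.not_eq_true'] at this
      exact this
  | _ :: _ :: _ :: _ :: _ => simp [chkRep7] at hc

end

end Cfsg.Agent.H335.TC6
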