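import Cfsg.Agent.H335.TC6.Elt7
import Cfsg.Agent.H335.TC6.Def
import Cfsg.Agent.H335.FT.CertP

/-!
# S2464, `F₄(2)`: the explicit points (helper335)

* `T20` ... `T29` : for the words without fixed vector: word, complement, and the conjugating words of the two factors
  (conjugates of `x1`, the image of `x0` under the graph automorphism);
* `TO` : the elements of order 13, 17, 21 (conjugates of `x0`).
-/

set_option autoImplicit false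
set_option maxRecDepth 100000

namespace Cfsg.Agent.H335.TC6.Pts

open Cfsg.Agent.H335.FT Cfsg.Agent.H335.FT.CertP Cfsg.Agent.H335.TC6

/-- the second word of order 7 -/
def x1 : List ℕ := [33, 14, 20, 27]

/-- the check of a point -/
def chkP (x t h k : List ℕ) : Bool := eqW (h ++ (x ++ (h.reverse ++ (k ++ (x ++ k.reverse))))) t

theorem p7_of_chk {x t h k : List ℕ} (e : chkP x t h k = true) : P7 (wd x) (wd t) := by
  unfold chkP at e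
  have h1 := wd_eq e
  rw [wd_append, wd_append, wd_append, wd_append, wd_append, wd_reverse, wd_reverse] at h1
  refine ⟨_, _, isConj_iff.2 ⟨wd h, rfl⟩, isConj_iff.2 ⟨wd k, rfl⟩, ?_⟩
  rw [← h1]
  group

/-- the check of a table -/
def chkT (T : List (List ℕ × List ℕ × List ℕ × List ℕ)) : Bool :=
  T.all fun e => chkP x1 (e.1.flatMap tw2 ++ e.2.1) e.2.2.1 e.2.2.2

def T20_0 : List (List ℕ × List ℕ × List ℕ × List ℕ) := [
  ([5, 4, 3, 2, 1, 0],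
    [], [34],
    [27, 26, 23, 20, 22, 23, 29, 26, 27, 20, 22, 35, 20, 22, 28, 14, 20, 22, 14]),
  ([5, 4, 3, 2, 1, 0],
    [33], [20, 30, 20],
    [27, 26, 23, 20, 22, 23, 36, 26, 34, 20, 22, 20, 14, 20, 27, 22]),
  ([5, 4, 3, 2, 1, 0],
    [36], [20, 30, 20],
    [27, 26, 23, 20, 22, 23, 38, 36, 26, 34, 20, 22, 20, 14, 20, 27, 22]),
  ([5, 4, 3, 2, 1, 0],
    [33, 36], [20, 30, 20],
    [27, 26, 23, 20, 22, 23, 36, 29, 26, 34, 20, 22, 20, 14, 20, 27, 22])]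

theorem c20_0 : chkT T20_0 = true := by decide +kernel

def T20_1 : List (List ℕ × List ℕ × List ℕ × List ℕ) := [
  ([5, 4, 3, 2, 1, 0],
    [41], [37],
    [27, 26, 23, 20, 22, 23, 43, 42, 38, 36, 29, 26, 34, 20, 22, 20, 14, 20, 27, 22]),
  ([5, 4, 3, 2, 1, 0],
    [33, 41], [37],
    [27, 26, 23, 20, 22, 23, 43, 42, 36, 26, 34, 20, 22, 20, 14, 20, 27, 22]),
  ([5, 4, 3, 2, 1, 0],
    [36, 41], [37],
    [27, 26, 23, 20, 22, 23, 43, 42, 38, 36, 26, 34, 20, 22, 20, 14, 20, 27, 22]),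
  ([5, 4, 3, 2, 1, 0],
    [33, 36, 41], [37],
    [27, 26, 23, 20, 22, 23, 43, 42, 36, 29, 26, 34, 20, 22, 20, 14, 20, 27, 22])]

theorem c20_1 : chkT T20_1 = true := by decide +kernel

def T21_0 : List (List ℕ × List ℕ × List ℕ × List ℕ) := [
  ([6, 4, 3, 2, 1, 0],
    [], [30, 20, 37],
    [27, 26, 23, 20, 22, 23, 29, 26, 34, 20, 22, 20, 14, 20, 27, 22]),
  ([6, 4, 3, 2, 1, 0],
    [33], [30, 20, 37],
    [27, 26, 23, 20, 22, 23, 38, 26, 34, 20, 22, 20, 14, 20, 27, 22]),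
  ([6, 4, 3, 2, 1, 0],
    [34], [41, 14, 29],
    [27, 26, 23, 20, 22, 23, 40, 36, 26, 20, 22, 14, 20, 22, 20, 14, 20]),
  ([6, 4, 3, 2, 1, 0],
    [33, 34], [27, 25, 41],
    [26, 23, 20, 22, 23, 44, 40, 38, 26, 34, 20, 22, 20, 14, 20, 27, 22])]

theorem c21_0 : chkT T21_0 = true := by decide +kernel

def T21_1 : List (List ℕ × List ℕ × List ℕ × List ℕ) := [
  ([6, 4, 3, 2, 1, 0],
    [41], [20],
    [27, 26, 23, 20, 22, 23, 43, 42, 29, 26, 34, 20, 22, 20, 14, 20, 27, 22]),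
  ([6, 4, 3, 2, 1, 0],
    [33, 41], [20],
    [27, 26, 23, 20, 22, 23, 43, 42, 38, 26, 34, 20, 22, 20, 14, 20, 27, 22]),
  ([6, 4, 3, 2, 1, 0],
    [34, 41], [20, 29, 41],
    [27, 26, 23, 20, 22, 23, 46, 26, 45, 29, 34, 20, 22, 20, 14, 20, 27, 22]),
  ([6, 4, 3, 2, 1, 0],
    [33, 34, 41], [20, 34],
    [27, 26, 23, 20, 22, 23, 43, 42, 26, 20, 14, 34, 22, 20, 14, 20, 22])]

theorem c21_1 : chkT T21_1 = true := by decide +kernel

def T22_0 : List (List ℕ × List ℕ × List ℕ × List ℕ) := [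
  ([6, 5, 4, 2, 1, 0],
    [], [37],
    [27, 26, 23, 20, 22, 23, 26, 34, 20, 22, 20, 14, 20, 27, 22]),
  ([6, 5, 4, 2, 1, 0],
    [41], [14, 25, 33],
    [26, 23, 22, 23, 43, 42, 26, 34, 20, 22, 20, 14, 20, 27, 22])]

theorem c22_0 : chkT T22_0 = true := by decide +kernel

def T25_0 : List (List ℕ × List ℕ × List ℕ × List ℕ) := [
  ([6, 5, 4, 3, 2, 1, 0],
    [], [33, 38, 41],
    [27, 26, 23, 20, 22, 23, 44, 40, 26, 20, 22, 20, 14, 20, 27, 22]),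
  ([6, 5, 4, 3, 2, 1, 0],
    [41], [],
    [27, 26, 23, 20, 22, 23, 43, 42, 38, 36, 29, 26, 34, 20, 22, 20, 14, 20, 27, 22])]

theorem c25_0 : chkT T25_0 = true := by decide +kernel

def T28_0 : List (List ℕ × List ℕ × List ℕ × List ℕ) := [
  ([4, 3, 2, 6, 1, 2, 3, 1, 2, 0, 1, 0],
    [], [38, 30, 33, 20],
    [27, 26, 23, 20, 22, 23, 32, 24, 41, 35, 27, 20, 22, 20, 14, 20, 22, 25]),
  ([4, 3, 2, 6, 1, 2, 3, 1, 2, 0, 1, 0],
    [33], [14, 31, 44],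
    [27, 26, 23, 20, 22, 23, 43, 42, 39, 26, 24, 27, 20, 22, 35, 20, 14, 20, 22, 25])]

theorem c28_0 : chkT T28_0 = true := by decide +kernel

def T28_1 : List (List ℕ × List ℕ × List ℕ × List ℕ) := [
  ([4, 3, 2, 6, 1, 2, 3, 1, 2, 0, 1, 0],
    [34], [38, 20, 42],
    [30, 27, 26, 20, 22, 23, 22, 20, 22, 14, 20, 22, 23, 29, 26, 41, 20, 27, 14, 35]),
  ([4, 3, 2, 6, 1, 2, 3, 1, 2, 0, 1, 0],
    [33, 34], [33, 31, 20],
    [27, 26, 23, 20, 22, 23, 31, 43, 38, 36, 41, 27, 35, 20, 22, 20, 14, 20, 22, 25])]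

theorem c28_1 : chkT T28_1 = true := by decide +kernel

def T28_2 : List (List ℕ × List ℕ × List ℕ × List ℕ) := [
  ([4, 3, 2, 6, 1, 2, 3, 1, 2, 0, 1, 0],
    [41], [14, 29, 45],
    [27, 26, 23, 20, 22, 23, 45, 36, 32, 29, 24, 33, 27, 35, 20, 22, 20, 14, 20, 22, 25]),
  ([4, 3, 2, 6, 1, 2, 3, 1, 2, 0, 1, 0],
    [33, 41], [31, 20, 37],
    [30, 27, 24, 20, 22, 23, 22, 20, 22, 14, 20, 22, 23, 42, 14, 33, 25, 20])]

theorem c28_2 : chkT T28_2 = true := by decide +kernel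

def T28_3 : List (List ℕ × List ℕ × List ℕ × List ℕ) := [
  ([4, 3, 2, 6, 1, 2, 3, 1, 2, 0, 1, 0],
    [34, 41], [14, 39, 41],
    [38, 31, 27, 23, 20, 22, 23, 20, 22, 20, 14, 20, 22, 23, 43, 40, 39, 26, 14, 20]),
  ([4, 3, 2, 6, 1, 2, 3, 1, 2, 0, 1, 0],
    [33, 34, 41], [14, 23, 31],
    [27, 26, 23, 20, 22, 23, 26, 24, 14, 20, 14, 34, 30, 22, 20, 22, 25, 20])]

theorem c28_3 : chkT T28_3 = true := by decide +kernel

def T29_0 : List (List ℕ × List ℕ × List ℕ × List ℕ) := [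
  ([6, 4, 2, 3, 1, 2, 6, 4, 5, 3, 4, 0, 1, 2, 3, 0, 1, 2, 0, 1, 0],
    [], [39, 34, 27, 26],
    [27, 25, 24, 20, 22, 20, 14, 20, 22, 23, 43, 32, 22, 20, 14, 20, 27, 22, 25, 20, 22])]

theorem c29_0 : chkT T29_0 = true := by decide +kernel

def T29_1 : List (List ℕ × List ℕ × List ℕ × List ℕ) := [
  ([6, 4, 2, 3, 1, 2, 6, 4, 5, 3, 4, 0, 1, 2, 3, 0, 1, 2, 0, 1, 0],
    [33], [27, 26, 35, 28],
    [32, 30, 14, 20, 22, 23, 14, 20, 22, 23, 20, 22, 14, 20, 22, 23, 44, 32, 28, 27, 20])]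

theorem c29_1 : chkT T29_1 = true := by decide +kernel

def T29_2 : List (List ℕ × List ℕ × List ℕ × List ℕ) := [
  ([6, 4, 2, 3, 1, 2, 6, 4, 5, 3, 4, 0, 1, 2, 3, 0, 1, 2, 0, 1, 0],
    [35], [27, 26, 28],
    [32, 30, 29, 14, 20, 22, 23, 14, 20, 22, 23, 20, 22, 14, 20, 22, 23, 29, 24, 14, 35, 34])]

theorem c29_2 : chkT T29_2 = true := by decide +kernel

def T29_3 : List (List ℕ × List ℕ × List ℕ × List ℕ) := [
  ([6, 4, 2, 3, 1, 2, 6, 4, 5, 3, 4, 0, 1, 2, 3, 0, 1, 2, 0, 1, 0],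
    [33, 35], [25, 22, 25, 37],
    [28, 25, 24, 22, 20, 22, 23, 26, 24, 22, 20, 37, 30, 22, 20, 22, 14, 20, 22, 25])]

theorem c29_3 : chkT T29_3 = true := by decide +kernel

def T29_4 : List (List ℕ × List ℕ × List ℕ × List ℕ) := [
  ([6, 4, 2, 3, 1, 2, 6, 4, 5, 3, 4, 0, 1, 2, 3, 0, 1, 2, 0, 1, 0],
    [42], [14, 20, 38],
    [27, 25, 24, 20, 22, 20, 14, 20, 22, 23, 44, 39, 32, 30, 22, 20, 14, 20, 27, 22, 25, 20, 22])]

theorem c29_4 : chkT T29_4 = true := by decide +kernel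

def T29_5 : List (List ℕ × List ℕ × List ℕ × List ℕ) := [
  ([6, 4, 2, 3, 1, 2, 6, 4, 5, 3, 4, 0, 1, 2, 3, 0, 1, 2, 0, 1, 0],
    [33, 42], [27, 34, 29],
    [27, 25, 24, 20, 22, 20, 14, 20, 22, 23, 39, 32, 30, 22, 20, 14, 20, 27, 22, 25, 20, 22])]

theorem c29_5 : chkT T29_5 = true := by decide +kernel

def T29_6 : List (List ℕ × List ℕ × List ℕ × List ℕ) := [
  ([6, 4, 2, 3, 1, 2, 6, 4, 5, 3, 4, 0, 1, 2, 3, 0, 1, 2, 0, 1, 0],
    [35, 42], [14, 20],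
    [27, 25, 24, 20, 22, 20, 14, 20, 22, 23, 39, 32, 30, 22, 20, 14, 20, 27, 22, 25, 20, 22])]

theorem c29_6 : chkT T29_6 = true := by decide +kernel

def T29_7 : List (List ℕ × List ℕ × List ℕ × List ℕ) := [
  ([6, 4, 2, 3, 1, 2, 6, 4, 5, 3, 4, 0, 1, 2, 3, 0, 1, 2, 0, 1, 0],
    [33, 35, 42], [14, 40, 20],
    [27, 25, 24, 20, 22, 20, 14, 20, 22, 23, 39, 32, 30, 22, 20, 14, 20, 27, 22, 25, 20, 22])]

theorem c29_7 : chkT T29_7 = true := by decide +kernel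

/-- all points -/
def TT : List (List ℕ × List ℕ × List ℕ × List ℕ) :=
  T20_0 ++ T20_1 ++ T21_0 ++ T21_1 ++ T22_0 ++ T25_0 ++ T28_0 ++ T28_1 ++ T28_2 ++ T28_3 ++
    T29_0 ++ T29_1 ++ T29_2 ++ T29_3 ++ T29_4 ++ T29_5 ++ T29_6 ++ T29_7

theorem chkTT : chkT TT = true := by
  unfold chkT TT
  simp only [List.all_append, Bool.and_eq_true]
  have hh : ∀ T, chkT T = true → (T.all fun e => chkP x1 (e.1.flatMap tw2 ++ e.2.1) e.2.2.1 e.2.2.2) = true := fun _ h => h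
  exact ⟨⟨⟨⟨⟨⟨⟨⟨⟨⟨⟨⟨⟨⟨⟨⟨⟨hh _ c20_0, hh _ c20_1⟩, hh _ c21_0⟩, hh _ c21_1⟩, hh _ c22_0⟩, hh _ c25_0⟩, hh _ c28_0⟩, hh _ c28_1⟩, hh _ c28_2⟩, hh _ c28_3⟩, hh _ c29_0⟩, hh _ c29_1⟩, hh _ c29_2⟩, hh _ c29_3⟩, hh _ c29_4⟩, hh _ c29_5⟩, hh _ c29_6⟩, hh _ c29_7⟩

theorem cov_TT : (NF.all fun w => (comps w).all fun c => TT.any fun e => e.1 == w && e.2.1 == c) = true := by
  decide +kernel

/-- **The points over the words without fixed vector.** -/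
theorem point {w c : List ℕ} (hw : w ∈ NF) (hc : c ∈ comps w) : P7 (wd x1) (wd (w.flatMap tw2 ++ c)) := by
  have h1 := (List.all_eq_true.1 ((List.all_eq_true.1 cov_TT) w hw)) c hc
  rw [List.any_eq_true] at h1
  obtain ⟨e, he, h2⟩ := h1
  rw [Bool.and_eq_true, beq_iff_eq, beq_iff_eq] at h2
  obtain ⟨rfl, rfl⟩ := h2
  exact p7_of_chk ((List.all_eq_true.1 chkTT) e he)

/-- the elements of order 13, 17, 21 -/
def TO : List (List ℕ × List ℕ × List ℕ) := [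
  ([25, 14, 20, 33, 23, 22, 27, 24],
    [33, 22, 36, 25, 20], [34, 20, 22, 14, 20, 14, 41, 26, 22, 32, 20, 22, 23, 22, 20, 31]),
  ([22, 23, 24, 33, 22, 20, 27, 14, 25],
    [26, 27, 23, 22, 20, 41], [42, 34, 25, 20, 14, 20, 22, 23, 20, 22, 20, 14, 45, 35, 34, 23, 24, 22, 28]),
  ([22, 23, 24, 33, 22, 20, 27, 14, 25, 22, 23, 24, 33, 22, 20, 27, 14, 25, 22, 23, 24, 33, 22, 20, 27, 14, 25],
    [27, 29, 38], [34, 14, 20, 14, 45, 42, 39, 37, 22, 23, 20, 22, 28, 20, 27, 24, 23, 20]),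
  ([33, 23, 24, 14, 20, 27, 20],
    [32, 27, 25, 22, 20, 41], [37, 30, 27, 20, 22, 20, 14, 40, 36, 32, 28, 20, 22, 20, 27, 23, 22, 26, 20]),
  ([24, 14, 33, 23, 22, 25, 22],
    [22, 20, 37, 28, 46], [33, 20, 14, 47, 42, 37, 20, 22, 26, 20, 27, 23, 24, 22, 20])]

theorem chkTO : (TO.all fun e => chkP x0 e.1 e.2.1 e.2.2) = true := by decide +kernel

theorem pointO {w : List ℕ} (hw : w ∈ TO.map Prod.fst) : P7 (wd x0) (wd w) := by
  rw [List.mem_map] at hw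
  obtain ⟨e, he, rfl⟩ := hw
  exact p7_of_chk ((List.all_eq_true.1 chkTO) e he)

end Cfsg.Agent.H335.TC6.Pts
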